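import Groth.Agent.Lib.GeomReg.Comp
import Groth.Agent.Lib.GeomReg.Local
import Groth.Agent.Lib.GeomReg.FiniteGRing
import Groth.Agent.Lib.Ratliff.EssFiniteType
import Groth.Agent.Lib.Excellent.GeomFibres
import Groth.Agent.Lib.N2.Excellent

/-!
# Descent of properties of formal fibres along local homomorphisms
-/

set_option autoImplicit false
set_option linter.style.haveILetI false
universe u

open IsLocalRing TensorProduct

namespace GrothLib.FormalDescent

variable (A A' : Type u) [CommRing A] [CommRing A'] [IsNoetherianRing A] [IsNoetherianRing A']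
  [IsLocalRing A] [IsLocalRing A'] [Algebra A A'] [IsLocalHom (algebraMap A A')] [Module.Flat A A']

/-- The completions of a flat local map. -/
theorem exists_flat_completion :
    ∃ (ψ : EGA4.Cpl A →+* EGA4.Cpl A'), ψ.comp (algebraMap A (EGA4.Cpl A)) = algebraMap A (EGA4.Cpl A') ∧
      (letI := ψ.toAlgebra; Module.FaithfullyFlat (EGA4.Cpl A) (EGA4.Cpl A')) := by
  obtain ⟨ψ, hψ⟩ := GrothLib.GeomReg.exists_completion_map A A'
  refine ⟨ψ, hψ.trans (IsScalarTower.algebraMap_eq A A' (EGA4.Cpl A')).symm, ?_⟩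
  letI := ψ.toAlgebra
  haveI : IsLocalHom (algebraMap (EGA4.Cpl A) (EGA4.Cpl A')) := GrothLib.AdicExtra.isLocalHom_completion ψ hψ
  haveI : Module.Flat (EGA4.Cpl A) (EGA4.Cpl A') :=
    (GrothLib.AdicExtra.flat_completion_iff ψ hψ).2 (RingHom.flat_algebraMap_iff.2 ‹Module.Flat A A'›)
  exact Module.FaithfullyFlat.of_flat_of_isLocalHom

/-- Fibres of Noetherian algebras are Noetherian. -/
theorem isNoetherianRing_fiber (R C : Type u) [CommRing R] [CommRing C] [IsNoetherianRing C] [Algebra R C]
    (p : Ideal R) [p.IsPrime] : IsNoetherianRing (p.Fiber C) := by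
  haveI : Algebra.EssFiniteType C (C ⊗[R] p.ResidueField) := inferInstance
  haveI : IsNoetherianRing (C ⊗[R] p.ResidueField) := Algebra.EssFiniteType.isNoetherianRing C _
  exact isNoetherianRing_of_ringEquiv _ (Algebra.TensorProduct.comm R C p.ResidueField).toRingEquiv

theorem geomReduced_of_isRegularHom {R C : Type u} [CommRing R] [CommRing C] [Algebra R C]
    (h : CAlg.IsRegularHom R C) (p : Ideal R) [p.IsPrime] :
    Algebra.IsGeometricallyReduced p.ResidueField (p.Fiber C) := by
  refine GrothLib.Excellent.geomReduced_fibres_of_fields (fun K _ _ => ?_) p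
  refine GrothLib.Excellent.isReduced_field_tensor (fun q _ => ?_) K
  refine GrothLib.Excellent.isGeometricallyReduced_of_finite fun L _ _ hL => ?_
  haveI := (h.2 q).2 L hL
  exact GrothLib.N2.isReduced_of_isRegularRing _

theorem isRegularHom_descent (hf : CAlg.IsRegularHom A A') (hA' : CAlg.IsRegularHom A' (EGA4.Cpl A')) :
    CAlg.IsRegularHom A (EGA4.Cpl A) := by
  obtain ⟨ψ, hψ, hff⟩ := exists_flat_completion A A'
  letI := ψ.toAlgebra
  haveI := hff
  haveI : IsScalarTower A (EGA4.Cpl A) (EGA4.Cpl A') := IsScalarTower.of_algebraMap_eq' hψ.symm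
  haveI : IsNoetherianRing (EGA4.Cpl A') := (GrothLib.Ratliff.isUniversallyCatenary_cpl (A := A')).1
  exact GrothLib.GeomReg.isRegularHom_of_faithfullyFlat (S := EGA4.Cpl A) (S' := EGA4.Cpl A')
    (GrothLib.GeomReg.isRegularHom_comp (B := A') hf hA' fun p _ => isNoetherianRing_fiber A (EGA4.Cpl A') p)

theorem geomReducedFormalFibres_descent
    (hf : ∀ (p : Ideal A) [p.IsPrime], Algebra.IsGeometricallyReduced p.ResidueField (p.Fiber A'))
    (hA' : CAlg.IsRegularHom A' (EGA4.Cpl A')) : EGA4.HasGeomReducedFormalFibres A := by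
  intro p _
  obtain ⟨ψ, hψ, hff⟩ := exists_flat_completion A A'
  letI := ψ.toAlgebra
  haveI := hff
  haveI : IsScalarTower A (EGA4.Cpl A) (EGA4.Cpl A') := IsScalarTower.of_algebraMap_eq' hψ.symm
  haveI : Module.Flat A' (EGA4.Cpl A') := hA'.1
  exact GrothLib.Excellent.geomReduced_of_comp (B := EGA4.Cpl A) (C := EGA4.Cpl A')
    (fun q _ => GrothLib.Excellent.geomReduced_comp (B := A') hf (fun r _ => geomReduced_of_isRegularHom hA' r) q) p

end GrothLib.FormalDescent
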